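import Cfsg.Agent.E8A.Two.Hx
import Cfsg.Agent.E8A.Par.Ext

/-!
# Boxes TB, TC: the Lie algebra of type `E₈`, general facts (helper43)

* `br_anti`, `br_self`, `br_jac`, `brL`; `hq a` : the toral vector of a lattice vector, `rl_hq`, `kf_hq`;
* `br_ee_op`, `br_ee` : brackets of root vectors; `finrank_LS`; `exists_tz`;
* `yv k` : the vector with `(y, u) ^ 2 = (k u, u)` of an involution in characteristic 2;
* `ux_inj`; `lam` : the one parameter group of an element of class 92.
-/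

set_option autoImplicit false
set_option maxRecDepth 100000

namespace Cfsg.Agent.E8A.TwoH

open CoxeterSystem Cfsg Cfsg.Lie Module
open Matrix hiding J J_transpose
open Cfsg.Agent.ChevalleyStructure Cfsg.Agent.ChevalleyStructure.CoxeterGeom
  Cfsg.Agent.ChevalleyStructure.CoxeterGeomTypes Cfsg.Agent.ChevalleyStructure.JacMain
open Cfsg.Agent.Tits.Roots Cfsg.Agent.Nodes.Reps Cfsg.Agent.Nodes.BNOf Cfsg.Agent.Nodes.RGDChev
open Cfsg.Agent.KFacts.RgdChevCoord Cfsg.Agent.H129.TorusChar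
open Cfsg.Agent.H942.E8Tab (e8T)
open Cfsg.Agent.H288.E8L (wt wt_inl wt_inr rt_vec vec_ne_zero exists_idx wt_inj)
open Cfsg.Agent.H597.E8Form (J)
open Cfsg.Agent.H897.T5Lat (bf_apply)
open Cfsg.Agent.E8A.Frm (B0 fm8 finW8 invB8)
open Cfsg.Agent.E8A.Inf (kf kf_apply kf_comm kf_act kf_act' kf_nd kf_nondeg)
open Cfsg.Agent.E8A.Par (op vec_op op_ne adm_ee mx_xr_entry kf_ee act_xr ux act_ux norm_wt)
open Cfsg.Agent.E8A.Reg5.Cls (ex dz Cj)
open Cfsg.Agent.E8A.Two

universe u

variable {K : Type u} [Field K]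

/-! ### the bracket -/

theorem br_anti (x y : L8 K) : br x y = -br y x := adm_injective (by rw [adm_neg, adm_br, adm_br, neg_sub])

theorem br_self (x : L8 K) : br x x = 0 := adm_injective (by rw [adm_br, sub_self, adm_zero])

theorem br_jac (x y z : L8 K) : br (br x y) z = br x (br y z) - br y (br x z) := by
  show adm (br x y) *ᵥ z = adm x *ᵥ (adm y *ᵥ z) - adm y *ᵥ (adm x *ᵥ z)
  rw [adm_br, Matrix.sub_mulVec, Matrix.mulVec_mulVec, Matrix.mulVec_mulVec]

variable (K) in
/-- the bracket as a bilinear map -/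
noncomputable def brL : L8 K →ₗ[K] L8 K →ₗ[K] L8 K :=
  LinearMap.mk₂ K br br_add_left br_smul_left br_add_right br_smul_right

theorem brL_apply (x y : L8 K) : brL K x y = br x y := rfl

theorem br_zero_left (y : L8 K) : br 0 y = 0 := by rw [← brL_apply, map_zero]; rfl

theorem br_zero_right (x : L8 K) : br x 0 = 0 := map_zero (brL K x)

theorem br_comm_zero {x y : L8 K} (h : br x y = 0) : br y x = 0 := by rw [br_anti, h, neg_zero]

/-- an element which commutes with `y`, `z` commutes with their bracket -/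
theorem br_br_zero {x y z : L8 K} (h1 : br x y = 0) (h2 : br x z = 0) : br x (br y z) = 0 := by
  have h := br_jac x y z
  rwa [h1, h2, br_zero_left, br_zero_right, sub_zero, eq_comm] at h

theorem br_der (x y z : L8 K) : br x (br y z) = br (br x y) z + br y (br x z) := by rw [br_jac, sub_add_cancel]

theorem two_L [CharP K 2] (v : L8 K) : v + v = 0 := funext fun i => CharTwo.add_self_eq_zero (v i)

theorem neg_L [CharP K 2] (v : L8 K) : -v = v := funext fun i => CharTwo.neg_eq (v i)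

theorem sub_L [CharP K 2] (v w : L8 K) : v - w = v + w := by rw [sub_eq_add_neg, neg_L]

theorem eq_of_add_L [CharP K 2] {v w : L8 K} (h : v + w = 0) : v = w := by rwa [← sub_L, sub_eq_zero] at h

theorem br_comm [CharP K 2] (x y : L8 K) : br x y = br y x := by rw [br_anti, neg_L]

/-! ### toral vectors -/

variable (K) in
/-- the toral vector of a lattice vector -/
def hq (a : Q8) : L8 K := Sum.elim (fun i => ((a (ix i) : ℤ) : K)) fun _ => 0

theorem inT_hq (a : Q8) : InT (hq K a) := fun _ => rfl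

theorem rl_hq (a b : Q8) : rl (hq K a) b = ((B0 a b : ℤ) : K) := by
  rw [rl_apply, bf_apply]
  push_cast
  refine Finset.sum_congr rfl fun i _ => ?_
  show ((pairing (cartanOf chevE8 8) (ix i) b : ℤ) : K) * ((a (ix i) : ℤ) : K) = _
  unfold pairing
  push_cast
  rw [Finset.sum_mul]
  exact Finset.sum_congr rfl fun j _ => by rw [mul_comm, mul_assoc]; rfl

theorem AZ_eq (i j : Fin 8) : H597.E8Form.AZ i j = cartanOf chevE8 8 j i :=
  (by decide +kernel : ∀ i j : Fin 8, Columns.car chevE8 i.val (chevE8.simpleIdx.getD j.val 0) = cartanOf chevE8 8 j i) i j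

theorem kf_T {h : L8 K} (hh : InT h) (v : L8 K) : kf K h v = ∑ i : Fin 8, h (Sum.inl (xi i)) * rl v (sr i) := by
  rw [kf_apply, dotProduct, Fintype.sum_sum_type, Finset.sum_eq_zero (s := Finset.univ)
    (f := fun r => h (Sum.inr r) * (J K *ᵥ v) (Sum.inr r)) fun r _ => by rw [hh r, zero_mul], add_zero]
  refine Finset.sum_congr rfl fun i _ => ?_
  congr 1
  refine Eq.trans ?_ (rl_sr v (ix i)).symm
  show ∑ j, J K (Sum.inl i) j * v j = _
  rw [Fintype.sum_sum_type, Finset.sum_eq_zero (s := Finset.univ)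
    (f := fun r => J K (Sum.inl i) (Sum.inr r) * v (Sum.inr r)) fun r _ => by rw [H597.E8Form.J_lr, zero_mul], add_zero]
  refine Finset.sum_congr rfl fun j _ => ?_
  rw [H597.E8Form.J_ll, AZ_eq]
  rfl

theorem kf_hq (a : Q8) (v : L8 K) : kf K (hq K a) v = rl v a := by
  rw [kf_T (inT_hq a)]
  conv_rhs => rw [IsMC.eq_sum_sr a, map_sum]
  exact Finset.sum_congr rfl fun i _ => by rw [map_zsmul, zsmul_eq_mul]; rfl

theorem rl_zero (a : Q8) : rl (0 : L8 K) a = 0 := by rw [← zero_smul K (0 : L8 K), rl_smul, zero_mul]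

/-! ### root vectors -/

theorem cor_vec : ∀ (r : Fin chevE8.nroots) (i : Fin chevE8.rank),
    (chevE8.coroot.getD r #[]).getD i.val 0 = vec chevE8 8 r (ix i) := by decide +kernel

theorem br_ee_op (r : Fin chevE8.nroots) :
    br (ee K (Sum.inr r)) (ee K (Sum.inr (op r))) = hq K (vec chevE8 8 r) := by
  have h1 : InT (br (ee K (Sum.inr r)) (ee K (Sum.inr (op r)))) := inT_iff.2
    (br_LS (A := {vec chevE8 8 r}) (A' := {vec chevE8 8 (op r)}) (by
      rintro a rfl b rfl
      rw [vec_op, add_neg_cancel]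
      rfl) (ee_mem_LS rfl) (ee_mem_LS rfl))
  funext i
  rcases i with i | s
  · have h3 := mx_xr_entry r (1 : K) (Sum.inl i) (Sum.inr (op r))
    rw [if_neg (by simp), if_neg (by simp), zero_add, sub_zero, one_mul] at h3
    have h4 := NBlock.x_neg_inl (D := chevE8) r.2 (RootVec.neg_lt e8T.checked r.2) (op_ne r) (1 : K) i
    rw [mul_one, cor_vec] at h4
    rw [br, mulVec_ee, ← h3]
    exact h4
  · exact h1 s

theorem br_of_norm {A A' : Set Q8} (h : ∀ a ∈ A, ∀ b ∈ A', 2 < B0 (a + b) (a + b)) {x y : L8 K} (hx : x ∈ LS K A)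
    (hy : y ∈ LS K A') : br x y = 0 := by
  funext i
  exact LS_zero (br_LS (A'' := {c | 2 < B0 c c}) h hx hy) (not_lt.2 (norm_wt i))

theorem B0_vec (r : Fin chevE8.nroots) : B0 (vec chevE8 8 r) (vec chevE8 8 r) = 2 := by
  have := finW8
  exact fm8.self (rt_vec r)

theorem B0_add (a b : Q8) : B0 (a + b) (a + b) = B0 a a + 2 * B0 a b + B0 b b := by
  have := finW8
  exact fm8.norm_add a b

theorem br_ee_zero {r s : Fin chevE8.nroots} (h : 0 ≤ B0 (vec chevE8 8 r) (vec chevE8 8 s)) :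
    br (ee K (Sum.inr r)) (ee K (Sum.inr s)) = 0 :=
  br_of_norm (A := {vec chevE8 8 r}) (A' := {vec chevE8 8 s}) (by
    rintro a rfl b rfl
    rw [B0_add, B0_vec, B0_vec]
    omega) (ee_mem_LS rfl) (ee_mem_LS rfl)

theorem br_ee_smul {r s u : Fin chevE8.nroots} (h : vec chevE8 8 u = vec chevE8 8 r + vec chevE8 8 s) :
    br (ee K (Sum.inr r)) (ee K (Sum.inr s)) =
      ((adA chevE8 (Sum.inr r) (Sum.inr u) (Sum.inr s) : ℤ) : K) • ee K (Sum.inr u) := by
  have h1 : br (ee K (Sum.inr r)) (ee K (Sum.inr s)) ∈ LS K {vec chevE8 8 u} :=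
    br_LS (A := {vec chevE8 8 r}) (A' := {vec chevE8 8 s}) (by
      rintro a rfl b rfl
      exact h.symm) (ee_mem_LS rfl) (ee_mem_LS rfl)
  rw [eq_smul_ee h1, br, mulVec_ee, adm_ee]

theorem adA_ne {r s u : Fin chevE8.nroots} (h : vec chevE8 8 u = vec chevE8 8 r + vec chevE8 8 s) :
    ((adA chevE8 (Sum.inr r) (Sum.inr u) (Sum.inr s) : ℤ) : K) ≠ 0 := by
  intro h0
  have h1 : B0 (vec chevE8 8 r) (vec chevE8 8 s) = -1 := by
    have h2 := B0_vec u
    rw [h, B0_add, B0_vec, B0_vec] at h2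
    omega
  have h2 := congrFun (br_jac (ee K (Sum.inr r)) (ee K (Sum.inr (op r))) (ee K (Sum.inr s))) (Sum.inr s)
  rw [br_ee_op, br_ee_zero (r := op r) (by rw [vec_op, map_neg, LinearMap.neg_apply, h1]; norm_num), br_ee_smul h, h0,
    zero_smul, br_zero_right, br_zero_right, sub_zero, br_T (inT_hq _), wt_inr, rl_hq, h1, ee_self] at h2
  simp at h2

theorem intCast_eq_one [CharP K 2] {m : ℤ} (h : (m : K) ≠ 0) : (m : K) = 1 := by
  obtain ⟨k, rfl | rfl⟩ := Int.even_or_odd' m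
  · exact absurd (by push_cast; rw [CharTwo.two_eq_zero, zero_mul]) h
  · push_cast
    rw [CharTwo.two_eq_zero, zero_mul, zero_add]

theorem br_ee [CharP K 2] {r s u : Fin chevE8.nroots} (h : vec chevE8 8 u = vec chevE8 8 r + vec chevE8 8 s) :
    br (ee K (Sum.inr r)) (ee K (Sum.inr s)) = ee K (Sum.inr u) := by
  rw [br_ee_smul h, intCast_eq_one (adA_ne h), one_smul]

theorem finrank_LS (A : Set Q8) [DecidablePred (· ∈ A)] :
    finrank K (LS K A) = (Finset.univ.filter fun i : chevE8.Idx => wt i ∈ A).card := by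
  have h1 : LS K A = Pi.spanSubset K {i : chevE8.Idx | wt i ∈ A} := by
    ext v
    rw [Pi.mem_spanSubset_iff, mem_LS]
    exact forall_congr' fun i => not_imp_comm
  rw [h1, Pi.dim_spanSubset, ← Set.ncard_coe_finset]
  congr 1
  ext i
  simp

theorem exists_tz {c : K} (hc : c ≠ 0) (y : Q8) : ∃ t ∈ TT chevE8 K, mx t = dz c y := by
  obtain ⟨t, ht, h⟩ := exists_cX e8T invB8 one_ne_zero (φ := fun a => c ^ ex y a)
    ⟨by rw [Reg5.Cls.ex_zero, zpow_zero], fun a b => by rw [ex_add', zpow_add₀ hc]⟩ fun i => ⟨_, pow_one _⟩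
  refine ⟨t, ht, ?_⟩
  rw [mx_TT ht, dz]
  congr 1
  exact funext fun i => h _

theorem act_sum {ι : Type*} (g : G8 K) (s : Finset ι) (f : ι → L8 K) : act g (∑ i ∈ s, f i) = ∑ i ∈ s, act g (f i) :=
  map_sum (LK K g) f s

/-! ### the vector of an involution -/

/-- `(y, u) ^ 2 = (k u, u)` -/
def Yv (k : G8 K) (y : L8 K) : Prop := ∀ u, kf K y u ^ 2 = kf K (act k u) u

theorem Yv.uniq [CharP K 2] {k : G8 K} {y y' : L8 K} (h : Yv k y) (h' : Yv k y') : y = y' := by
  refine eq_of_add_L (kf_nd fun u => pow_eq_zero_iff (two_ne_zero) |>.1 ?_)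
  rw [map_add, LinearMap.add_apply, CharTwo.add_sq, h, h', CharTwo.add_self_eq_zero]

theorem Yv.conj {k : G8 K} {y : L8 K} (h : Yv k y) (g : G8 K) : Yv (g * k * g⁻¹) (act g y) := fun u => by
  rw [kf_act', h, act_mul, act_mul, kf_act' g]

theorem qf_add [CharP K 2] {k : G8 K} (hk : k * k = 1) (u v : L8 K) :
    kf K (act k (u + v)) (u + v) = kf K (act k u) u + kf K (act k v) v := by
  have h1 : kf K (act k v) u = kf K (act k u) v := by
    rw [kf_act', inv_eq_of_mul_eq_one_left hk, kf_comm]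
  simp only [act_add, map_add, LinearMap.add_apply, h1]
  linear_combination CharTwo.add_self_eq_zero (kf K (act k u) v)

theorem yv_of_basis [CharP K 2] {k : G8 K} (hk : k * k = 1) {y : L8 K}
    (h : ∀ i, kf K y (ee K i) ^ 2 = kf K (act k (ee K i)) (ee K i)) : Yv k y := by
  intro u
  induction u using Pi.single_induction with
  | zero => simp [act_zero]
  | add f g hf hg => rw [qf_add hk, map_add, CharTwo.add_sq, hf, hg]
  | single i c =>
    have h1 : (Pi.single i c : L8 K) = c • ee K i := by rw [ee, ← Pi.single_smul, smul_eq_mul, mul_one]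
    rw [h1, act_smul, map_smul, map_smul, map_smul, LinearMap.smul_apply, smul_eq_mul, smul_eq_mul, smul_eq_mul, mul_pow, h]
    ring

theorem exists_yv [CharP K 2] [IsAlgClosed K] {k : G8 K} (hk : k * k = 1) : ∃ y, Yv k y := by
  choose s hs using fun i => IsAlgClosed.exists_pow_nat_eq (kf K (act k (ee K i)) (ee K i)) two_pos
  obtain ⟨y, hy⟩ := (LinearMap.BilinForm.toDual (kf K) kf_nondeg).surjective ((Pi.basisFun K _).constr K s)
  refine ⟨y, yv_of_basis hk fun i => ?_⟩
  have h1 := LinearMap.congr_fun hy (Pi.basisFun K _ i)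
  rw [Basis.constr_basis, LinearMap.BilinForm.toDual_def, Pi.basisFun_apply] at h1
  rw [← hs, ← h1]
  rfl

/-- the vector of an involution -/
noncomputable def yv (k : G8 K) : L8 K := Classical.epsilon (Yv k)

theorem Yv.eq [CharP K 2] {k : G8 K} {y : L8 K} (h : Yv k y) : yv k = y :=
  (Classical.epsilon_spec ⟨y, h⟩ : Yv k (yv k)).uniq h

theorem yv_conj [CharP K 2] [IsAlgClosed K] {k : G8 K} (hk : k * k = 1) (g : G8 K) :
    yv (g * k * g⁻¹) = act g (yv k) := by
  obtain ⟨y, hy⟩ := exists_yv hk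
  rw [hy.eq, (hy.conj g).eq]

/-! ### root elements determine their vectors -/

theorem ux_inj {g h : G8 K} {r s : Fin chevE8.nroots} (e : ux g r 1 = ux h s 1) :
    act g (ee K (Sum.inr r)) = act h (ee K (Sum.inr s)) := by
  obtain ⟨y, hy⟩ : ∃ y, y = act (g⁻¹ * h) (ee K (Sum.inr s)) := ⟨_, rfl⟩
  have h1 : ∀ v, InT v → br y v - kf K y v • y = -(rv r v • ee K (Sum.inr r)) := by
    intro v hv
    have h2 : xr r (1 : K) = ux (g⁻¹ * h) s 1 := by
      rw [← Par.conj_ux, ← e, ux]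
      group
    have h3 := act_xr_T r (1 : K) hv
    rw [h2, act_ux, ← hy, one_smul, one_pow, one_mul, mul_one, add_sub_assoc, sub_eq_add_neg v] at h3
    exact add_left_cancel h3
  have h2 : ∀ v, InT v → kf K y v = 0 := by
    intro v hv
    by_contra h0
    have h3 : ∀ i, y (Sum.inl i) = 0 := fun i => by
      have h4 := congrFun (h1 v hv) (Sum.inl i)
      rw [Pi.sub_apply, br_T' y hv, wt_inl, map_zero, zero_mul, neg_zero, zero_sub, Pi.neg_apply, Pi.smul_apply,
        Pi.smul_apply, ee_ne (by simp), smul_zero, neg_inj, smul_eq_mul] at h4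
      exact (mul_eq_zero.1 h4).resolve_left h0
    apply h0
    rw [kf_comm, kf_T hv]
    exact Finset.sum_eq_zero fun i _ => by rw [rl_congr (w := 0) h3, rl_zero, mul_zero]
  have h3 : y = ee K (Sum.inr r) := by
    have h4 : InT (y - ee K (Sum.inr r)) := inT_of_cen fun v hv => by
      have h5 := h1 v hv
      rw [h2 v hv, zero_smul, sub_zero] at h5
      rw [br_sub_left, h5, br_anti, br_T_ee hv, sub_self]
    refine sub_eq_zero.1 (kf_nd fun v => ?_)
    have h5 : kf K (y - ee K (Sum.inr r)) v = kf K (y - ee K (Sum.inr r)) (tp v) := by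
      rw [kf_T h4, kf_T h4, rl_tp]
    rw [h5, map_sub, LinearMap.sub_apply, h2 _ (inT_tp v), kf_ee, tp_inr, sub_zero]
  rw [← h3, hy, ← act_mul, mul_inv_cancel_left]

/-! ### the one parameter group of an element of class 92 -/

theorem wt_zero_bd : ∀ j : chevE8.Idx, -2 ≤ wt j 0 ∧ wt j 0 ≤ 2 := by decide +kernel

theorem om_rel {ω : K} (hω : IsPrimitiveRoot ω 3) : ω ^ 2 + ω + 1 = 0 := by
  have h := hω.geom_sum_eq_zero (by norm_num)
  simp only [Finset.sum_range_succ, Finset.range_zero, Finset.sum_empty] at h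
  linear_combination h

theorem om_zpow {ω : K} (hω : IsPrimitiveRoot ω 3) : ω ^ (-1 : ℤ) = ω ^ 2 ∧ ω ^ (-2 : ℤ) = ω ∧ ω ^ (2 : ℤ) = ω ^ 2 := by
  have h0 := hω.ne_zero (by norm_num)
  have h3 := hω.pow_eq_one
  refine ⟨?_, ?_, zpow_ofNat ω 2⟩
  · rw [_root_.zpow_neg_one, inv_eq_iff_eq_inv, eq_comm, inv_eq_iff_eq_inv, eq_comm, inv_eq_iff_eq_inv]
    exact eq_inv_of_mul_eq_one_left (by rw [← h3]; ring)
  · rw [_root_.zpow_neg, zpow_ofNat]
    exact (eq_inv_of_mul_eq_one_left (by rw [← h3]; ring)).symm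

theorem lam [CharP K 2] {ω : K} (hω : IsPrimitiveRoot ω 3) {g : G8 K} (hc : Cj g ω (Pi.single 0 1)) {z : L8 K}
    (H : Hx g z) {c : K} (hc0 : c ≠ 0) : ∃ l : G8 K, ∀ u, br z u = act g u + act g⁻¹ u →
      act l u = (1 + c + c⁻¹) • u + (1 + c * ω ^ 2 + c⁻¹ * ω) • act g u + (1 + c * ω + c⁻¹ * ω ^ 2) • act g⁻¹ u := by
  obtain ⟨k, hk⟩ := hc
  have h0 := hω.ne_zero (by norm_num)
  have ht := mx_of_semi hk
  have ht' := mx_of_semi (semi_inv h0 hk)
  have h1 := H.conj k⁻¹
  rw [inv_inv] at h1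
  obtain ⟨h2, h3⟩ := h1.spec ht
  have h4 : ∀ a, rl (act k⁻¹ z) a = ((a 0 : ℤ) : K) := fun a => by
    conv_lhs => rw [IsMC.eq_sum_sr a, map_sum]
    rw [Finset.sum_eq_single 0]
    · rw [map_zsmul, h3, if_pos rfl, zsmul_eq_mul, mul_one]
    · intro j _ hj
      rw [map_zsmul, h3, if_neg hj, smul_zero]
    · intro h
      exact absurd (Finset.mem_univ _) h
  obtain ⟨t, -, htz⟩ := exists_tz hc0 (Pi.single 0 1)
  refine ⟨k * t * k⁻¹, fun u hu => act_injective k⁻¹ ?_⟩
  have e1 : ∀ x : G8 K, act k⁻¹ (act x u) = act (k⁻¹ * x * k) (act k⁻¹ u) := fun x => by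
    rw [← act_mul, ← act_mul, mul_inv_cancel_right]
  have h5 := congrArg (act k⁻¹) hu
  rw [act_br, act_add, e1, e1] at h5
  rw [act_add, act_add, act_smul, act_smul, act_smul, e1, e1, e1, show k⁻¹ * (k * t * k⁻¹) * k = t by group]
  funext i
  have h6 := congrFun h5 i
  rw [br_T h2, h4, Pi.add_apply, act_dz ht, act_dz ht', ex_neg, ex_single] at h6
  simp only [Pi.add_apply, Pi.smul_apply, smul_eq_mul]
  rw [act_dz htz, act_dz ht, act_dz ht', ex_neg, ex_single]
  obtain ⟨k1, k2, k3⟩ := om_zpow hω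
  have k4 := om_rel hω
  have k5 := hω.pow_eq_one
  have k6 : (2 : K) = 0 := CharTwo.two_eq_zero
  obtain ⟨b1, b2⟩ := wt_zero_bd i
  generalize wt i 0 = m at *
  generalize act k⁻¹ u i = w at *
  interval_cases m
  · rw [neg_neg, k2, k3] at h6 ⊢
    have h7 : w = 0 := by
      push_cast at h6
      linear_combination -h6 - w * k4
    rw [h7]
    simp
  · rw [neg_neg, k1, zpow_one, _root_.zpow_neg_one]
    linear_combination (-w - c * w * (ω ^ 2 - ω + 1)) * k4 - (2 * c⁻¹ * w) * k5 - c⁻¹ * w * k6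
  · simp only [neg_zero, zpow_zero]
    linear_combination (-c * w - c⁻¹ * w) * k4 - w * k6
  · rw [k1, zpow_one, zpow_one]
    linear_combination (-w - c⁻¹ * w * (ω ^ 2 - ω + 1)) * k4 - (2 * c * w) * k5 - c * w * k6
  · rw [k2, k3] at h6 ⊢
    have h7 : w = 0 := by
      push_cast at h6
      linear_combination h6 + w * k4 - w * k6
    rw [h7]
    simp

end Cfsg.Agent.E8A.TwoH
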