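import Cfsg.Agent.E8A.TwoH.V14
import Cfsg.Agent.E8A.TwoH.CertA5

/-!
# Box TC: the vectors of the 3-cycles and their relations (helper43)

* `hx g` : the canonical vector; `Z ψ a b c` : the vector of the 3-cycle `(a b c)`; `Z_act`, `Z_sw1`, `Z_sw2`;
* `Z_ne`, `r1`, `r2`, `zeta`.
-/

set_option autoImplicit false
set_option maxRecDepth 100000

namespace Cfsg.Agent.E8A.TwoH

open Cfsg Cfsg.Lie Module Equiv
open Cfsg.Agent.R2.T1.Odd Cfsg.Agent.R2.T1.Msk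
open Cfsg.Agent.H952.F4 (ev)
open Cfsg.Agent.E8A.Reg5.Cls (Cj)
open Cfsg.Agent.E8A.Two

universe u

section

variable {K : Type u} [Field K]

/-- the canonical vector -/
noncomputable def hx (g : G8 K) : L8 K := Classical.epsilon (Hx g)

theorem dm_cj {n : ℕ} {ψ : Alt n →* G8 K} {c : Multiset ℕ} {d : ℕ} (h : Dm ψ c d) (σ : Perm (Fin n)) :
    Dm (ψ.comp (cj σ)) c d := fun a ha => h _ ((ct_cj σ a).trans ha)

theorem nofx_cj {n : ℕ} {ψ : Alt n →* G8 K} (h : NoFx ψ) (σ : Perm (Fin n)) : NoFx (ψ.comp (cj σ)) := fun v hv =>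
  h v fun a => by
    obtain ⟨b, rfl⟩ := cj_surj σ a
    exact hv b

theorem hx_smul {g g' : G8 K} {z z' : L8 K} (H : Hx g z) (H' : Hx g' z') {c : K} (e : z = c • z') : z = z' := by
  have h1 := H.idem
  rw [e, adm_smul, Matrix.smul_mul, Matrix.mul_smul, H'.idem, smul_smul, ← adm_smul, ← adm_smul] at h1
  have h2 := smul_left_injective K H'.ne (adm_injective h1)
  have h3 : c ≠ 0 := by
    rintro rfl
    exact H.ne (by rw [e, zero_smul])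
  rw [e, mul_left_cancel₀ h3 (h2.trans (mul_one c).symm), one_smul]

variable {n : ℕ} [NeZero n]

open Classical in
/-- the vector of a 3-cycle -/
noncomputable def Z (ψ : Alt n →* G8 K) (a b c : ℕ) : L8 K :=
  if Ok n [a, b, c] then hx (ψ (P n [(a, b), (b, c)])) else 0

theorem Z_ok {ψ : Alt n →* G8 K} {a b c : ℕ} (h : Ok n [a, b, c]) : Z ψ a b c = hx (ψ (P n [(a, b), (b, c)])) := if_pos h

theorem Z_not {ψ : Alt n →* G8 K} {a b c : ℕ} (h : ¬ Ok n [a, b, c]) : Z ψ a b c = 0 := if_neg h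

theorem Z_cj (ψ : Alt n →* G8 K) (σ : Perm (Fin n)) {a b c : ℕ} (ha : a < n) (hb : b < n) (hc : c < n) :
    Z (ψ.comp (cj σ)) a b c = Z ψ (sf σ a) (sf σ b) (sf σ c) := by
  have h1 : Ok n [sf σ a, sf σ b, sf σ c] ↔ Ok n [a, b, c] := ok_sf σ (l := [a, b, c]) (by simp [ha, hb, hc])
  by_cases h : Ok n [a, b, c]
  · rw [Z_ok h, Z_ok (h1.2 h), MonoidHom.comp_apply, cj_P]
    rfl
  · rw [Z_not h, Z_not fun h' => h (h1.1 h')]

theorem ct3 (hn : 8 ≤ n) {a b c : ℕ} (h : Ok n [a, b, c]) : (P n [(a, b), (b, c)] : Perm (Fin n)).cycleType = {3} := by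
  obtain ⟨σ, hσ⟩ := exists_sf h
  replace hσ : [sf σ 0, sf σ 1, sf σ 2] = [a, b, c] := hσ
  simp only [List.cons.injEq, and_true] at hσ
  obtain ⟨rfl, rfl, rfl⟩ := hσ
  rw [show P n [(sf σ 0, sf σ 1), (sf σ 1, sf σ 2)] = cj σ (P n [(0, 1), (1, 2)]) from (cj_P σ [(0, 1), (1, 2)]).symm,
    ct_cj, ct_P hn (by decide)]
  decide +kernel

omit [NeZero n] in
theorem pow_three {a : Alt n} (h : (a : Perm (Fin n)).cycleType = {3} ∨ (a : Perm (Fin n)).cycleType = {3, 3}) :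
    a ^ 3 = 1 := by
  apply Subtype.ext
  rw [Subgroup.coe_pow, Subgroup.coe_one, ← orderOf_dvd_iff_pow_eq_one, ← Perm.lcm_cycleType]
  rcases h with h | h <;> rw [h] <;> decide

end

variable {F : Type u} [Field F] [Finite F] [CharP F 2] {n : ℕ} [NeZero n] {ψ : Alt n →* G8 (Kb F)}

theorem hx_spec {g : G8 (Kb F)} (h3 : g ^ 3 = 1) (hd : ev (LK (Kb F) g) 1 = 92) : Hx g (hx g) :=
  Classical.epsilon_spec (exists_hx h3 (Or.inl hd))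

theorem hx_eq {g : G8 (Kb F)} (h3 : g ^ 3 = 1) (hd : ev (LK (Kb F) g) 1 = 92) {z : L8 (Kb F)} (H : Hx g z) : hx g = z :=
  hx_unique h3 (Or.inl hd) (hx_spec h3 hd) H

theorem hx_conj {g : G8 (Kb F)} (h3 : g ^ 3 = 1) (hd : ev (LK (Kb F) g) 1 = 92) (k : G8 (Kb F)) :
    hx (k * g * k⁻¹) = act k (hx g) :=
  hx_eq (by rw [conj_pow, h3, mul_one, mul_inv_cancel]) (by rw [Inf.ev_conj, hd]) ((hx_spec h3 hd).conj k)

theorem hx_inv {g : G8 (Kb F)} (h3 : g ^ 3 = 1) (hd : ev (LK (Kb F) g) 1 = 92) : hx g⁻¹ = hx g := by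
  have h1 : Hx g⁻¹ (hx g⁻¹) := Classical.epsilon_spec ⟨_, (hx_spec h3 hd).inv⟩
  have h2 := h1.inv
  rw [inv_inv] at h2
  exact (hx_eq h3 hd h2).symm

/-- the hypotheses -/
structure HC (ψ : Alt n →* G8 (Kb F)) : Prop where
  hn : 8 ≤ n
  d3 : Dm ψ {3} 92
  d33 : Dm ψ {3, 3} 80
  d5 : Dm ψ {5} 48
  nf : NoFx ψ

namespace HC

variable (h : HC ψ)
include h

omit [Finite F] [CharP F 2] [NeZero n] in
theorem cj (σ : Perm (Fin n)) : HC (ψ.comp (cj σ)) :=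
  ⟨h.hn, dm_cj h.d3 σ, dm_cj h.d33 σ, dm_cj h.d5 σ, nofx_cj h.nf σ⟩

omit [Finite F] [CharP F 2] in
theorem tri {a b c : ℕ} (ho : Ok n [a, b, c]) :
    ψ (P n [(a, b), (b, c)]) ^ 3 = 1 ∧ ev (LK (Kb F) (ψ (P n [(a, b), (b, c)]))) 1 = 92 :=
  ⟨by rw [← map_pow, pow_three (Or.inl (ct3 h.hn ho)), map_one], h.d3 _ (ct3 h.hn ho)⟩

theorem hxZ {a b c : ℕ} (ho : Ok n [a, b, c]) : Hx (ψ (P n [(a, b), (b, c)])) (Z ψ a b c) := by
  rw [Z_ok ho]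
  exact hx_spec (h.tri ho).1 (h.tri ho).2

theorem cjZ {ω : Kb F} (hω : IsPrimitiveRoot ω 3) {a b c : ℕ} (ho : Ok n [a, b, c]) :
    Cj (ψ (P n [(a, b), (b, c)])) ω (Pi.single 0 1) := cj_92 three_ne hω (h.tri ho).1 (h.tri ho).2

theorem Z_act {g : G8 (Kb F)} {σ : Perm (Fin n)} (hg : ∀ x, g * ψ x * g⁻¹ = ψ (TwoH.cj σ x)) {a b c : ℕ} (ha : a < n)
    (hb : b < n) (hc : c < n) : act g (Z ψ a b c) = Z ψ (sf σ a) (sf σ b) (sf σ c) := by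
  rw [← Z_cj ψ σ ha hb hc]
  by_cases ho : Ok n [a, b, c]
  · rw [Z_ok ho, Z_ok ho, MonoidHom.comp_apply, ← hg, hx_conj (h.tri ho).1 (h.tri ho).2]
  · rw [Z_not ho, Z_not ho, act_zero]

theorem Z_alt (x : Alt n) {a b c : ℕ} (ha : a < n) (hb : b < n) (hc : c < n) :
    act (ψ x) (Z ψ a b c) = Z ψ (sf (x : Perm (Fin n)) a) (sf (x : Perm (Fin n)) b) (sf (x : Perm (Fin n)) c) :=
  h.Z_act (fun y => by rw [cj_coe, map_mul, map_mul, map_inv]) ha hb hc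

theorem Z_P {m : ℕ} (hm : m ≤ n) {l : List (ℕ × ℕ)} (hl : vl m l = true) {a b c : ℕ} (ha : a < n) (hb : b < n)
    (hc : c < n) : act (ψ (P n l)) (Z ψ a b c) = Z ψ (ap l a) (ap l b) (ap l c) := by
  rw [h.Z_alt _ ha hb hc, sf_P hm hl ha, sf_P hm hl hb, sf_P hm hl hc]

theorem sw0 : Z ψ 1 0 2 = Z ψ 0 1 2 ∧ Z ψ 0 2 1 = Z ψ 0 1 2 := by
  have hn := h.hn
  have ho : Ok n [0, 1, 2] := ok_of hn (by decide)
  rw [Z_ok ho, Z_ok (ok_of hn (by decide)), Z_ok (ok_of hn (by decide)), ← hx_inv (h.tri ho).1 (h.tri ho).2, ← map_inv]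
  exact ⟨by rw [P_inv hn (c := [(1, 0), (0, 2)]) (by decide)], by rw [P_inv hn (c := [(0, 2), (2, 1)]) (by decide)]⟩

theorem sw (a b c : ℕ) : Z ψ b a c = Z ψ a b c ∧ Z ψ a c b = Z ψ a b c := by
  have hn := h.hn
  by_cases ho : Ok n [a, b, c]
  · obtain ⟨σ, hσ⟩ := exists_sf ho
    replace hσ : [sf σ 0, sf σ 1, sf σ 2] = [a, b, c] := hσ
    simp only [List.cons.injEq, and_true] at hσ
    obtain ⟨rfl, rfl, rfl⟩ := hσ
    have h1 := (h.cj σ).sw0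
    rwa [Z_cj ψ σ, Z_cj ψ σ, Z_cj ψ σ] at h1 <;> omega
  · exact ⟨by rw [Z_not ho, Z_not fun h' => ho (h'.perm (List.Perm.swap _ _ _))],
      by rw [Z_not ho, Z_not fun h' => ho (h'.perm ((List.Perm.swap _ _ _).cons _))]⟩

theorem sw1 (a b c : ℕ) : Z ψ b a c = Z ψ a b c := (h.sw a b c).1

theorem sw2 (a b c : ℕ) : Z ψ a c b = Z ψ a b c := (h.sw a b c).2

theorem ne0 : Z ψ 0 1 2 ≠ Z ψ 0 1 3 := by
  have hn := h.hn
  intro e
  have h1 : ∀ a b c d, Ok n [a, b, c, d] → Z ψ a b c = Z ψ a b d := by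
    intro a b c d ho
    obtain ⟨x, hx⟩ := exists_sf_even ho (by simp; omega)
    replace hx : [sf x.1 0, sf x.1 1, sf x.1 2, sf x.1 3] = [a, b, c, d] := hx
    simp only [List.cons.injEq, and_true] at hx
    obtain ⟨rfl, rfl, rfl, rfl⟩ := hx
    rw [← h.Z_alt x, ← h.Z_alt x, e] <;> omega
  refine (h.hxZ (ok_of hn (by decide))).ne (h.nf (Z ψ 0 1 2) fun x => ?_)
  refine gen3 ((stab (Z ψ 0 1 2)).comap ψ) (a := 3) (b := 4) (ok_of hn (by decide)) (fun k hk => ?_) x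
  show act (ψ _) _ = _
  have hk' : k < n := hk.2 k (by simp)
  have hk3 : 3 ≠ k ∧ 4 ≠ k := by simpa using hk.1
  rw [h.Z_P le_rfl (vl_iff.2 ⟨by simp, by simp [En]; omega⟩) (by omega) (by omega) (by omega)]
  rcases (by omega : k = 0 ∨ k = 1 ∨ k = 2 ∨ 5 ≤ k) with rfl | rfl | rfl | hk5
  · show Z ψ 4 1 2 = _
    rw [h.sw1 1, h.sw2 1, h1 1 2 4 0 (ok_of hn (by decide)), h.sw2 1, h.sw1]
  · show Z ψ 0 4 2 = _
    rw [h.sw2 0, h1 0 2 4 1 (ok_of hn (by decide)), h.sw2]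
  · exact h1 0 1 4 2 (ok_of hn (by decide))
  · rw [ap_out, ap_out, ap_out] <;> simp <;> omega

theorem Z_ne {a b c d : ℕ} (ho : Ok n [a, b, c, d]) : Z ψ a b c ≠ Z ψ a b d := by
  have hn := h.hn
  obtain ⟨σ, hσ⟩ := exists_sf ho
  replace hσ : [sf σ 0, sf σ 1, sf σ 2, sf σ 3] = [a, b, c, d] := hσ
  simp only [List.cons.injEq, and_true] at hσ
  obtain ⟨rfl, rfl, rfl, rfl⟩ := hσ
  have h1 := (h.cj σ).ne0
  rwa [Z_cj ψ σ, Z_cj ψ σ] at h1 <;> omega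

theorem ad0 {ω : Kb F} (hω : IsPrimitiveRoot ω 3) :
    (∀ u ∈ VV ω (ψ (P n [(3, 4), (4, 5)])) (Z ψ 3 4 5),
      br (Z ψ 0 1 2) u = act (ψ (P n [(0, 1), (1, 2)])) u + act (ψ (P n [(0, 1), (1, 2)]))⁻¹ u) ∧
    6 ≤ finrank (Kb F) (VV ω (ψ (P n [(3, 4), (4, 5)])) (Z ψ 3 4 5) ⊓ Fx (ψ (P n [(0, 1), (1, 2)])) : Submodule (Kb F) _) := by
  have hn := h.hn
  have o1 : Ok n [3, 4, 5] := ok_of hn (by decide)
  have o2 : Ok n [0, 1, 2] := ok_of hn (by decide)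
  refine dim6 hω (h.tri o1).1 (h.tri o2).1 ((P_comm hn (by decide)).map ψ) (h.tri o1).2 (h.tri o2).2 ?_ ?_
    (h.hxZ o1) (h.hxZ o2)
  · rw [← map_mul, ← P_append hn (by decide) (by decide)]
    exact h.d33 _ (by rw [ct_P hn (by decide)]; decide +kernel)
  · rw [← map_inv, ← map_mul, P_inv hn (c := [(1, 2), (0, 1)]) (by decide), ← P_append hn (by decide) (by decide)]
    exact h.d33 _ (by rw [ct_P hn (by decide)]; decide +kernel)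

theorem adZ {ω : Kb F} (hω : IsPrimitiveRoot ω 3) {a b c d e f : ℕ} (ho : Ok n [a, b, c, d, e, f]) :
    (∀ u ∈ VV ω (ψ (P n [(d, e), (e, f)])) (Z ψ d e f),
      br (Z ψ a b c) u = act (ψ (P n [(a, b), (b, c)])) u + act (ψ (P n [(a, b), (b, c)]))⁻¹ u) ∧
    6 ≤ finrank (Kb F) (VV ω (ψ (P n [(d, e), (e, f)])) (Z ψ d e f) ⊓ Fx (ψ (P n [(a, b), (b, c)])) : Submodule (Kb F) _) := by
  have hn := h.hn
  obtain ⟨σ, hσ⟩ := exists_sf ho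
  replace hσ : [sf σ 0, sf σ 1, sf σ 2, sf σ 3, sf σ 4, sf σ 5] = [a, b, c, d, e, f] := hσ
  simp only [List.cons.injEq, and_true] at hσ
  obtain ⟨rfl, rfl, rfl, rfl, rfl, rfl⟩ := hσ
  have h1 := (h.cj σ).ad0 hω
  rwa [Z_cj ψ σ, Z_cj ψ σ, MonoidHom.comp_apply, MonoidHom.comp_apply, cj_P, cj_P] at h1 <;> omega

end HC

section std

variable (ψ) in
/-- the representation -/
noncomputable abbrev rp : Representation (Kb F) (Alt n) (L8 (Kb F)) := (LK (Kb F)).comp ψ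

variable (ψ) in
/-- the module of dimension 14 -/
noncomputable abbrev V0 (ω : Kb F) : Submodule (Kb F) (L8 (Kb F)) := VV ω (ψ (P n [(5, 6), (6, 7)])) (Z ψ 5 6 7)

/-- the triples -/
def tr (i : ℕ) : ℕ × ℕ × ℕ :=
  [(0, 1, 2), (0, 1, 3), (0, 2, 3), (1, 2, 3), (0, 1, 4), (0, 2, 4), (0, 3, 4), (1, 2, 4), (1, 3, 4), (2, 3, 4)].getD i (0, 1, 2)

variable (ψ) in
/-- the vectors of the triples -/
noncomputable abbrev Zt (i : ℕ) : L8 (Kb F) := Z ψ (tr i).1 (tr i).2.1 (tr i).2.2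

namespace HC

variable (h : HC ψ) {ω : Kb F}
include h

theorem fixT {l : List (ℕ × ℕ)} (hl : vl 5 l = true) : Commute (ψ (P n l)) (ψ (P n [(5, 6), (6, 7)])) ∧
    act (ψ (P n l)) (Z ψ 5 6 7) = Z ψ 5 6 7 := by
  have hn := h.hn
  have h1 := (vl_iff.1 hl).2
  constructor
  · refine Commute.map ?_ ψ
    show _ * _ = _ * _
    rw [← mul_inv_eq_iff_eq_mul, conj_P, ml_cons, ml_cons, ml_nil, sf_P (by omega) hl, sf_P (by omega) hl,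
      sf_P (by omega) hl, ap_ge h1, ap_ge h1, ap_ge h1] <;> omega
  · rw [h.Z_P (by omega) hl, ap_ge h1, ap_ge h1, ap_ge h1] <;> omega

theorem hV : ∀ g ∈ gT, ∀ u ∈ V0 ψ ω, rp ψ (P n g) u ∈ V0 ψ ω := fun g hg _ hu => by
  have h1 := h.fixT (List.all_eq_true.1 (by decide : gT.all (vl 5) = true) g hg)
  exact VV_comm h1.1 h1.2 hu

theorem fixZ {i : ℕ} (hi : i < 10) : act (ψ (P n [(5, 6), (6, 7)])) (Zt ψ i) = Zt ψ i := by
  have hn := h.hn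
  have h1 : ∀ i < 10, (tr i).1 < 5 ∧ (tr i).2.1 < 5 ∧ (tr i).2.2 < 5 := by decide
  have h2 := h1 i hi
  rw [h.Z_P hn (by decide) (by omega) (by omega) (by omega), ap_out, ap_out, ap_out] <;> simp <;> omega

theorem adT (hω : IsPrimitiveRoot ω 3) {i : ℕ} (hi : i < 10) {u : L8 (Kb F)} (hu : u ∈ V0 ψ ω) :
    br (Zt ψ i) u = Op (rp ψ) gT (w2 i) u := by
  have hn := h.hn
  have h1 : ∀ i < 10, (decide [(tr i).1, (tr i).2.1, (tr i).2.2, 5, 6, 7].Nodup &&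
      [(tr i).1, (tr i).2.1, (tr i).2.2, 5, 6, 7].all fun a => Nat.blt a 8) = true ∧
      wd gT [i] = [((tr i).1, (tr i).2.1), ((tr i).2.1, (tr i).2.2)] ∧
      (vl 8 (wd gT [i]) && vl 8 (wd gT [i, i]) && cd 8 (wd gT [i] ++ wd gT [i, i]) == cd 8 []) = true := by decide
  obtain ⟨k1, k2, k3⟩ := h1 i hi
  rw [(h.adZ hω (ok_of hn k1)).1 u hu, ← k2, ← map_inv, P_inv hn k3, w2, Op_cons, Op_cons, Op_nil, LinearMap.zero_apply,
    add_zero]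
  rfl

theorem two_le0 {ζ : Kb F} (hζ : IsPrimitiveRoot ζ 15) (hω : IsPrimitiveRoot (ζ ^ 10) 3) :
    2 ≤ finrank (Kb F) ((V0 ψ (ζ ^ 10)).map (MM (rp ψ))) := by
  have := charKb (F := F)
  have hn := h.hn
  have e10 : ψ (P n [(5, 6), (6, 7), (0, 3), (3, 4), (0, 1), (1, 2)]) ^ 10 = ψ (P n [(5, 6), (6, 7)]) := by
    rw [← map_pow, P_pow_eq hn (l' := [(5, 6), (6, 7)]) (by decide) (by decide) (by decide)]
  have e6 : ψ (P n [(5, 6), (6, 7), (0, 3), (3, 4), (0, 1), (1, 2)]) ^ 6 = ψ (P n (wd gT [6, 0])) := by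
    rw [← map_pow, P_pow_eq hn (l' := wd gT [6, 0]) (by decide) (by decide) (by decide)]
  have o1 : Ok n [5, 6, 7] := ok_of hn (by decide)
  have h1 := dim2 hζ (g := ψ (P n [(5, 6), (6, 7), (0, 3), (3, 4), (0, 1), (1, 2)])) (z := Z ψ 5 6 7)
    (by rw [← map_pow, P_pow_one hn (by decide) (by decide), map_one])
    (by
      rw [← map_pow, ← P_pwl hn (by decide)]
      exact ψ.map_isConj (isConj_iff.2 ⟨_, P_conj' hn (a := [(0, 1), (0, 2), (1, 4), (6, 7)]) (by decide)⟩))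
    (by rw [e10]; exact (h.tri o1).2) (by rw [e6]; exact h.d5 _ (by rw [ct_P hn (by decide)]; decide +kernel))
    (by rw [e10]; exact h.hxZ o1)
  rw [e10, e6] at h1
  exact two_le (by omega) two_L h.hV (fun v hv => hv) (fun v hv hv' => Submodule.mem_inf.2 ⟨hv, hv'⟩)
    (h.adZ hω (a := 0) (b := 1) (c := 2) (ok_of hn (by decide))).2 h1

omit h [Finite F] in
theorem exists_roots : ∃ ζ : Kb F, IsPrimitiveRoot ζ 15 ∧ IsPrimitiveRoot (ζ ^ 10) 3 := by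
  obtain ⟨ζ, hζ⟩ := Reg5.Cls.exists_prim (F := F) 2 (N := 15) (by norm_num)
  have h1 := (hζ.pow (by norm_num) (show 15 = 5 * 3 by norm_num)).pow_of_coprime 2 (by norm_num)
  exact ⟨ζ, hζ, by rwa [← pow_mul] at h1⟩

theorem r1a0 : ∃ κ : Kb F, Z ψ 0 1 2 + Z ψ 0 1 3 + Z ψ 0 2 3 + Z ψ 1 2 3 = κ • Z ψ 5 6 7 := by
  have := charKb (F := F)
  have hn := h.hn
  obtain ⟨ζ, hζ, hω⟩ := exists_roots (F := F)
  have o1 : Ok n [5, 6, 7] := ok_of hn (by decide)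
  refine rk1 hω (h.cjZ hω o1) (h.hxZ o1) (v := Zt ψ 0 + Zt ψ 1 + Zt ψ 2 + Zt ψ 3) ?_ ?_
  · rw [act_add, act_add, act_add, h.fixZ, h.fixZ, h.fixZ, h.fixZ] <;> norm_num
  · refine le_trans (Submodule.finrank_mono ?_) (rk_le_one (by omega) two_L h.hV (dim14 hω (h.cjZ hω o1) (h.hxZ o1))
      (h.two_le0 hζ hω))
    rintro _ ⟨u, hu, rfl⟩
    refine ⟨u, hu, ?_⟩
    rw [brL_apply, br_add_left, br_add_left, br_add_left, h.adT hω _ hu, h.adT hω _ hu, h.adT hω _ hu, h.adT hω _ hu, w8,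
      Op_append, Op_append, Op_append] <;> norm_num

theorem r10 : Z ψ 0 1 2 + Z ψ 0 1 3 + Z ψ 0 2 3 + Z ψ 1 2 3 = 0 := by
  have hn := h.hn
  obtain ⟨κ, h1⟩ := h.r1a0
  obtain ⟨σ, hσ⟩ := exists_sf (ok_of hn (by decide) : Ok n [0, 1, 2, 3, 5, 4, 6, 7])
  replace hσ : [sf σ 0, sf σ 1, sf σ 2, sf σ 3, sf σ 4, sf σ 5, sf σ 6, sf σ 7] = [0, 1, 2, 3, 5, 4, 6, 7] := hσ
  simp only [List.cons.injEq, and_true] at hσ
  obtain ⟨e0, e1, e2, e3, -, e5, e6, e7⟩ := hσ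
  obtain ⟨κ', h2⟩ := (h.cj σ).r1a0
  rw [Z_cj ψ σ, Z_cj ψ σ, Z_cj ψ σ, Z_cj ψ σ, Z_cj ψ σ, e0, e1, e2, e3, e5, e6, e7, h1] at h2 <;> try omega
  by_contra h0
  have h3 : κ ≠ 0 := by
    rintro rfl
    exact h0 (by rw [h1, zero_smul])
  have h4 := hx_smul (h.hxZ (ok_of hn (by decide))) (h.hxZ (ok_of hn (by decide))) (c := κ⁻¹ * κ')
    (show Z ψ 5 6 7 = _ • Z ψ 4 6 7 by rw [mul_smul, ← h2, inv_smul_smul₀ h3])
  rw [h.sw1 6, h.sw2 6, h.sw1 6 4, h.sw2 6 7 4] at h4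
  exact h.Z_ne (ok_of hn (by decide)) h4

/-- **R1** -/
theorem r1 {a b c d : ℕ} (ho : Ok n [a, b, c, d]) : Z ψ a b c + Z ψ a b d + Z ψ a c d + Z ψ b c d = 0 := by
  have hn := h.hn
  obtain ⟨σ, hσ⟩ := exists_sf ho
  replace hσ : [sf σ 0, sf σ 1, sf σ 2, sf σ 3] = [a, b, c, d] := hσ
  simp only [List.cons.injEq, and_true] at hσ
  obtain ⟨rfl, rfl, rfl, rfl⟩ := hσ
  have h1 := (h.cj σ).r10
  rwa [Z_cj ψ σ, Z_cj ψ σ, Z_cj ψ σ, Z_cj ψ σ] at h1 <;> omega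

theorem r20 : br (Z ψ 0 1 2) (Z ψ 0 1 3) = Z ψ 1 2 3 + Z ψ 0 2 3 := by
  have := charKb (F := F)
  have hn := h.hn
  obtain ⟨ζ, hζ, hω⟩ := exists_roots (F := F)
  have o1 : Ok n [5, 6, 7] := ok_of hn (by decide)
  have o2 : Ok n [0, 1, 2] := ok_of hn (by decide)
  obtain ⟨κ, h1⟩ := rk1 hω (h.cjZ hω o1) (h.hxZ o1) (v := br (Zt ψ 0) (Zt ψ 1) + (Zt ψ 3 + Zt ψ 2)) (by
    rw [act_add, act_add, act_br, h.fixZ, h.fixZ, h.fixZ, h.fixZ] <;> norm_num) (by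
    have h2 : (V0 ψ (ζ ^ 10)).map (brL (Kb F) (br (Zt ψ 0) (Zt ψ 1) + (Zt ψ 3 + Zt ψ 2))) = ⊥ := by
      rw [eq_bot_iff]
      rintro _ ⟨u, hu, rfl⟩
      have h3 := fun i hi => VV_br (h.fixZ (i := i) hi) (h.hxZ o1) hu
      rw [brL_apply, br_add_left, br_add_left, br_jac, h.adT hω _ (h3 1 (by norm_num)), h.adT hω _ (h3 0 (by norm_num)),
        h.adT hω _ hu, h.adT hω _ hu, h.adT hω _ hu, h.adT hω _ hu, sub_L, cc_br (by omega) two_L, two_L] <;> norm_num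
    rw [h2, finrank_bot]
    norm_num)
  replace h1 : br (Z ψ 0 1 2) (Z ψ 0 1 3) + (Z ψ 1 2 3 + Z ψ 0 2 3) = κ • Z ψ 5 6 7 := h1
  have a0 : act (ψ (P n [(0, 1), (1, 2)])) (Z ψ 0 1 2) = Z ψ 0 1 2 := (h.hxZ o2).fix
  have a1 : act (ψ (P n [(0, 1), (1, 2)])) (Z ψ 0 1 3) = Z ψ 1 2 3 := h.Z_P hn (by decide) (by omega) (by omega) (by omega)
  have a2 : act (ψ (P n [(0, 1), (1, 2)])) (Z ψ 1 2 3) = Z ψ 0 2 3 :=
    (h.Z_P hn (by decide) (by omega) (by omega) (by omega)).trans (h.sw1 0 2 3)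
  have a3 : act (ψ (P n [(0, 1), (1, 2)])) (Z ψ 0 2 3) = Z ψ 0 1 3 :=
    (h.Z_P hn (by decide) (by omega) (by omega) (by omega)).trans (h.sw1 0 1 3)
  have a4 := (h.fixT (l := [(0, 1), (1, 2)]) (by decide)).2
  have h2 := congrArg (act (ψ (P n [(0, 1), (1, 2)]))) h1
  rw [act_add, act_add, act_br, act_smul, a0, a1, a2, a3, a4] at h2
  have h3 := congrArg (act (ψ (P n [(0, 1), (1, 2)]))) h2
  rw [act_add, act_add, act_br, act_smul, a0, a1, a2, a3, a4] at h3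
  have h4 := (h.hxZ o2).cen (Z ψ 0 1 3 + Z ψ 1 2 3 + Z ψ 0 2 3) (by rw [act_add, act_add, a1, a2, a3]; abel)
  rw [br_add_right, br_add_right] at h4
  have h5 : κ • Z ψ 5 6 7 = 0 := by
    linear_combination (exp := 1) h4 - h1 - h2 - h3 + two_L (Z ψ 1 2 3) + two_L (Z ψ 0 2 3) + two_L (Z ψ 0 1 3) -
      two_L (κ • Z ψ 5 6 7)
  exact eq_of_add_L (h1.trans h5)

/-- **R2** -/
theorem r2 {a b c d : ℕ} (ho : Ok n [a, b, c, d]) : br (Z ψ a b c) (Z ψ a b d) = Z ψ b c d + Z ψ a c d := by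
  have hn := h.hn
  obtain ⟨σ, hσ⟩ := exists_sf ho
  replace hσ : [sf σ 0, sf σ 1, sf σ 2, sf σ 3] = [a, b, c, d] := hσ
  simp only [List.cons.injEq, and_true] at hσ
  obtain ⟨rfl, rfl, rfl, rfl⟩ := hσ
  have h1 := (h.cj σ).r20
  rwa [Z_cj ψ σ, Z_cj ψ σ, Z_cj ψ σ, Z_cj ψ σ] at h1 <;> omega

theorem zeta : Z ψ 0 1 2 + Z ψ 0 1 3 + Z ψ 0 2 3 + Z ψ 1 2 3 + Z ψ 0 1 4 + Z ψ 0 2 4 + Z ψ 0 3 4 + Z ψ 1 2 4 + Z ψ 1 3 4 +
    Z ψ 2 3 4 ≠ Z ψ 5 6 7 := by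
  obtain ⟨ζ, hζ, hω⟩ := exists_roots (F := F)
  intro e
  refine c20_ne (h.two_le0 hζ hω) fun u hu => ?_
  have h1 : br (Zt ψ 0 + Zt ψ 1 + Zt ψ 2 + Zt ψ 3 + Zt ψ 4 + Zt ψ 5 + Zt ψ 6 + Zt ψ 7 + Zt ψ 8 + Zt ψ 9) u = 0 :=
    (congrArg (br · u) e).trans hu.2
  simp only [br_add_left] at h1
  rw [h.adT hω _ hu, h.adT hω _ hu, h.adT hω _ hu, h.adT hω _ hu, h.adT hω _ hu, h.adT hω _ hu, h.adT hω _ hu,
    h.adT hω _ hu, h.adT hω _ hu, h.adT hω _ hu] at h1 <;> try norm_num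
  simpa only [w20, w8, Op_append] using h1

end HC

end std

end Cfsg.Agent.E8A.TwoH
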